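import Mathlib
import Cfsg.Agent.Lib.Helper2.AffExt

/-!
# S3626 piece RG3-AFFCONJ: `aff_orderOf_eq`
-/

set_option autoImplicit false
set_option linter.unusedSectionVars false
set_option linter.unusedVariables false

namespace Cfsg.Agent.Helper10.RG3

open Matrix Polynomial Cfsg.Agent.Helper2.AffExt

universe u v

section aff

variable {G W : Type*} [Group G] [AddCommGroup W] [DistribMulAction G W]

/-- PIECE RG3-AFFCONJ -/
theorem aff_orderOf_eq (a : Aff G W) (v : W) (hv : a.w = v - a.g • v) : orderOf a = orderOf a.g := by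
  have hconj : a = MulAut.conj (⟨v, 1⟩ : Aff G W) (incl a.g) := by
    rw [MulAut.conj_apply]
    apply Aff.ext
    · rw [mul_w, mul_w, inv_w, hv]
      change v - a.g • v = v + (1 : G) • (0 : W) + ((1 : G) * a.g) • (-((1 : G)⁻¹ • v))
      rw [smul_zero, add_zero, one_mul, inv_one, one_smul, smul_neg, sub_eq_add_neg]
    · rw [mul_g, mul_g, inv_g]
      change a.g = (1 : G) * a.g * (1 : G)⁻¹
      rw [one_mul, inv_one, mul_one]
  have h1 : orderOf a = orderOf (incl a.g : Aff G W) := by
    conv_lhs => rw [hconj]
    exact MulEquiv.orderOf_eq _ _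
  rw [h1]
  exact orderOf_injective incl incl_injective a.g

end aff

end Cfsg.Agent.Helper10.RG3
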