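import Mathlib
import Cfsg.Agent.Lib.Helper10.RG3Defs

/-!
# S3626 piece RG3-AFFSURJ: if `A ∈ Gam K` has no nonzero fixed point on `M_2(K)` then
`v ↦ v - A v` is onto `(M_2(K))^k`.
-/

set_option autoImplicit false
set_option linter.unusedSectionVars false
set_option linter.unusedVariables false

namespace Cfsg.Agent.Helper10.RG3

open Matrix Polynomial Cfsg.Agent.Helper2.AffExt

universe u v

section lin

variable {K : Type*} [Field K] [CharP K 3]

/-- PIECE RG3-AFFSURJ -/
theorem exists_sub_smul [Fintype K] {k : ℕ} (A : Gam K) (hfpf : ∀ X : V2 K, A • X = X → X = 0)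
    (w : Fin k → V2 K) : ∃ v : Fin k → V2 K, w = v - A • v := by
  set L : V2 K →ₗ[K] V2 K :=
    LinearMap.id - ((A : V2 K ≃ₗ[K] V2 K) : V2 K →ₗ[K] V2 K) with hL
  have hLapp : ∀ X : V2 K, L X = X - A • X := by
    intro X
    rw [hL, LinearMap.sub_apply, LinearMap.id_apply, Gam_smul]
    rfl
  have hinj : Function.Injective L := by
    rw [← LinearMap.ker_eq_bot, LinearMap.ker_eq_bot']
    intro X hX
    rw [hLapp, sub_eq_zero] at hX
    exact hfpf X hX.symm
  have hsurj : Function.Surjective L := LinearMap.injective_iff_surjective.1 hinj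
  choose v hv using fun i => hsurj (w i)
  refine ⟨v, ?_⟩
  funext i
  rw [Pi.sub_apply, ← hv i, hLapp]
  rfl

end lin

end Cfsg.Agent.Helper10.RG3
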