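import Mathlib
import Cfsg.Agent.Lib.Helper10.RG3Defs

/-! S3626 farm-out (designer helper10), piece RG3-COMB: arithmetic lcm recombination. -/

set_option autoImplicit false
set_option linter.unusedSectionVars false
set_option linter.unusedVariables false

namespace Cfsg.Agent.Helper10.RG3

section arith

theorem rg3_comb_PK_one (q : ℕ) : PK q 1 := Or.inl (one_dvd _)

/-- `PG` splits as `PK` or a divisor of one of the two "big" numbers. -/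
theorem rg3_comb_split (m d : ℕ) (h : PG m d) :
    PK (3 ^ (2 * m + 1)) d ∨ d ∣ 3 ^ (2 * m + 1) - 3 ^ (m + 1) + 1 ∨
      d ∣ 3 ^ (2 * m + 1) + 3 ^ (m + 1) + 1 := by
  rcases h with h | h | h | h | h | h
  · exact Or.inl (Or.inl h)
  · exact Or.inl (Or.inr (Or.inl h))
  · exact Or.inl (Or.inr (Or.inr (Or.inl h)))
  · exact Or.inl (Or.inr (Or.inr (Or.inr h)))
  · exact Or.inr (Or.inl h)
  · exact Or.inr (Or.inr h)

theorem rg3_comb_PG_X (m d : ℕ) (h : d ∣ 3 ^ (2 * m + 1) - 3 ^ (m + 1) + 1) : PG m d :=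
  Or.inr (Or.inr (Or.inr (Or.inr (Or.inl h))))

theorem rg3_comb_PG_Y (m d : ℕ) (h : d ∣ 3 ^ (2 * m + 1) + 3 ^ (m + 1) + 1) : PG m d :=
  Or.inr (Or.inr (Or.inr (Or.inr (Or.inr h))))

theorem rg3_comb_lcm_ab (a b c : ℕ) :
    Nat.lcm 1 (Nat.lcm (Nat.lcm a b) c) = Nat.lcm a (Nat.lcm b c) := by
  rw [Nat.lcm_one_left, Nat.lcm_assoc]

theorem rg3_comb_lcm_ac (a b c : ℕ) :
    Nat.lcm 1 (Nat.lcm (Nat.lcm a c) b) = Nat.lcm a (Nat.lcm b c) := by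
  rw [Nat.lcm_one_left, Nat.lcm_assoc, Nat.lcm_comm c b]

theorem rg3_comb_lcm_bc (a b c : ℕ) :
    Nat.lcm 1 (Nat.lcm (Nat.lcm b c) a) = Nat.lcm a (Nat.lcm b c) := by
  rw [Nat.lcm_one_left, Nat.lcm_comm]

theorem rg3_comb_lcm_b (a b c : ℕ) :
    Nat.lcm b (Nat.lcm a c) = Nat.lcm a (Nat.lcm b c) := by
  rw [← Nat.lcm_assoc, Nat.lcm_comm b a, Nat.lcm_assoc]

theorem rg3_comb_lcm_c (a b c : ℕ) :
    Nat.lcm c (Nat.lcm a b) = Nat.lcm a (Nat.lcm b c) := by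
  rw [Nat.lcm_comm c, Nat.lcm_assoc]

/-- two divisors of the same number: merge them -/
theorem rg3_comb_same (m : ℕ) (D : ℕ) (hD : ∀ d, d ∣ D → PG m d) (x y z : ℕ) (hx : x ∣ D)
    (hy : y ∣ D) (hz : PG m z) :
    ∃ e a' b', PK (3 ^ (2 * m + 1)) e ∧ PG m a' ∧ PG m b' ∧
      Nat.lcm e (Nat.lcm a' b') = Nat.lcm 1 (Nat.lcm (Nat.lcm x y) z) :=
  ⟨1, Nat.lcm x y, z, rg3_comb_PK_one _, hD _ (Nat.lcm_dvd hx hy), hz, rfl⟩

/-- PIECE RG3-COMB. -/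
theorem comb (m a b c : ℕ) (ha : PG m a) (hb : PG m b) (hc : PG m c) :
    ∃ e a' b', PK (3 ^ (2 * m + 1)) e ∧ PG m a' ∧ PG m b' ∧
      Nat.lcm e (Nat.lcm a' b') = Nat.lcm a (Nat.lcm b c) := by
  rcases rg3_comb_split m a ha with hka | hxa
  · exact ⟨a, b, c, hka, hb, hc, rfl⟩
  rcases rg3_comb_split m b hb with hkb | hxb
  · exact ⟨b, a, c, hkb, ha, hc, rg3_comb_lcm_b a b c⟩
  rcases rg3_comb_split m c hc with hkc | hxc
  · exact ⟨c, a, b, hkc, ha, hb, rg3_comb_lcm_c a b c⟩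
  have hX := rg3_comb_PG_X m
  have hY := rg3_comb_PG_Y m
  rcases hxa with hxa | hya <;> rcases hxb with hxb | hyb <;> rcases hxc with hxc | hyc
  · rw [← rg3_comb_lcm_ab]; exact rg3_comb_same m _ hX a b c hxa hxb hc
  · rw [← rg3_comb_lcm_ab]; exact rg3_comb_same m _ hX a b c hxa hxb hc
  · rw [← rg3_comb_lcm_ac]; exact rg3_comb_same m _ hX a c b hxa hxc hb
  · rw [← rg3_comb_lcm_bc]; exact rg3_comb_same m _ hY b c a hyb hyc ha
  · rw [← rg3_comb_lcm_bc]; exact rg3_comb_same m _ hX b c a hxb hxc ha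
  · rw [← rg3_comb_lcm_ac]; exact rg3_comb_same m _ hY a c b hya hyc hb
  · rw [← rg3_comb_lcm_ab]; exact rg3_comb_same m _ hY a b c hya hyb hc
  · rw [← rg3_comb_lcm_ab]; exact rg3_comb_same m _ hY a b c hya hyb hc

end arith

end Cfsg.Agent.Helper10.RG3
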