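import Mathlib
import Cfsg.Agent.Lib.Helper10.RG3Basic

/-!
# S3626 piece RG3-KER (helper7 for helper10): the kernel of `Phi`
-/

set_option autoImplicit false
set_option linter.unusedSectionVars false
set_option linter.unusedVariables false

namespace Cfsg.Agent.Helper10.RG3

open Matrix Polynomial Cfsg.Agent.Helper2.AffExt

universe u v

section lin

variable {K : Type*} [Field K] [CharP K 3]

/-- entries of `e • (M * X * (sig M)ᵀ)` -/
theorem rg3_ker_entry (M X : V2 K) (e : K) (i j : Fin 2) :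
    (e • (M * X * (sig K M)ᵀ)) i j =
      e * ((M i 0 * X 0 0 + M i 1 * X 1 0) * (M j 0) ^ 3 +
        (M i 0 * X 0 1 + M i 1 * X 1 1) * (M j 1) ^ 3) := by
  simp only [Matrix.smul_apply, Matrix.mul_apply, Fin.sum_univ_two, Matrix.transpose_apply,
    sig_apply, smul_eq_mul]

theorem rg3_ker_aux (a b c d e : K) (he : e = 1 ∨ e = -1) (hdet : a * d - b * c = 1)
    (h1 : e * (a * a ^ 3) = 1) (h2 : e * (c * c ^ 3) = 0) (h3 : e * (b * b ^ 3) = 0)
    (h4 : e * (d * d ^ 3) = 1) (h5 : e * (a * d ^ 3) = 1) :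
    e = 1 ∧ b = 0 ∧ c = 0 ∧ ((a = 1 ∧ d = 1) ∨ (a = -1 ∧ d = -1)) := by
  have he0 : e ≠ 0 := by
    rcases he with h | h <;> rw [h] <;> simp
  have hee : e * e = 1 := by
    rcases he with h | h <;> rw [h] <;> ring
  have hc : c = 0 := by
    rcases mul_eq_zero.1 h2 with h | h
    · exact absurd h he0
    · have : c ^ 4 = 0 := by rw [← h]; ring
      exact pow_eq_zero_iff (by norm_num) |>.1 this
  have hb : b = 0 := by
    rcases mul_eq_zero.1 h3 with h | h
    · exact absurd h he0
    · have : b ^ 4 = 0 := by rw [← h]; ring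
      exact pow_eq_zero_iff (by norm_num) |>.1 this
  have had : a * d = 1 := by
    rw [hb, zero_mul, sub_zero] at hdet
    exact hdet
  have hed : e * d ^ 2 = 1 := by
    have : e * (a * d ^ 3) = (a * d) * (e * d ^ 2) := by ring
    rw [this, had, one_mul] at h5
    exact h5
  have hd4 : d ^ 4 = 1 := by
    calc d ^ 4 = 1 * d ^ 4 := by ring
      _ = (e * e) * d ^ 4 := by rw [hee]
      _ = (e * d ^ 2) * (e * d ^ 2) := by ring
      _ = 1 := by rw [hed]; ring
  have he1 : e = 1 := by
    have : e * (d * d ^ 3) = e * d ^ 4 := by ring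
    rw [this, hd4, mul_one] at h4
    exact h4
  have hd2 : d ^ 2 = 1 := by
    rw [he1, one_mul] at hed
    exact hed
  refine ⟨he1, hb, hc, ?_⟩
  have hd : (d - 1) * (d + 1) = 0 := by
    have : (d - 1) * (d + 1) = d ^ 2 - 1 := by ring
    rw [this, hd2, sub_self]
  rcases mul_eq_zero.1 hd with h | h
  · left
    have hd1 : d = 1 := sub_eq_zero.1 h
    rw [hd1, mul_one] at had
    exact ⟨had, hd1⟩
  · right
    have hd1 : d = -1 := eq_neg_of_add_eq_zero_left h
    rw [hd1] at had
    refine ⟨?_, hd1⟩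
    have : a = -(a * -1) := by ring
    rw [this, had]

/-- PIECE RG3-KER: the kernel of `Phi`. -/
theorem mkGam_eq_one_iff (g : Matrix.SpecialLinearGroup (Fin 2) K) (s : ℤˣ) :
    mkGam g s = 1 ↔ s = 1 ∧ ((g : V2 K) = 1 ∨ (g : V2 K) = -1) := by
  constructor
  · intro h
    have hX : ∀ X : V2 K, (sgn s : K) • ((g : V2 K) * X * (sig K (g : V2 K))ᵀ) = X := by
      intro X
      have h1 : mkGam g s • X = (1 : Gam K) • X := by rw [h]
      rw [one_smul, mkGam_smul] at h1
      exact h1
    have hdet : (g : V2 K) 0 0 * (g : V2 K) 1 1 - (g : V2 K) 0 1 * (g : V2 K) 1 0 = 1 := by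
      have := g.2
      rw [Matrix.det_fin_two] at this
      exact this
    have e11 := hX !![1, 0; 0, 0]
    have e22 := hX !![0, 0; 0, 1]
    have e12 := hX !![0, 1; 0, 0]
    have h1 := congrFun (congrFun e11 0) 0
    have h2 := congrFun (congrFun e11 1) 1
    have h3 := congrFun (congrFun e22 0) 0
    have h4 := congrFun (congrFun e22 1) 1
    have h5 := congrFun (congrFun e12 0) 1
    rw [rg3_ker_entry] at h1 h2 h3 h4 h5
    simp at h1 h2 h3 h4 h5
    obtain ⟨he, hb, hc, had⟩ := rg3_ker_aux ((g : V2 K) 0 0) ((g : V2 K) 0 1) ((g : V2 K) 1 0)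
      ((g : V2 K) 1 1) (sgn s) (sgn_eq s) hdet h1 (by
        rcases h2 with h | h
        · rw [h, zero_mul]
        · rw [h]; ring) (by
        rcases h3 with h | h
        · rw [h, zero_mul]
        · rw [h]; ring) h4 h5
    refine ⟨(sgn_eq_one_iff s).1 he, ?_⟩
    rcases had with ⟨ha, hd⟩ | ⟨ha, hd⟩
    · left
      ext i j
      fin_cases i <;> fin_cases j <;> simp [ha, hb, hc, hd]
    · right
      ext i j
      fin_cases i <;> fin_cases j <;> simp [ha, hb, hc, hd]
  · rintro ⟨rfl, h | h⟩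
    · have : g = 1 := by
        apply Subtype.ext
        rw [h, Matrix.SpecialLinearGroup.coe_one]
      rw [this]
      exact mkGam_one_one
    · exact mkGam_neg_one g h

end lin

end Cfsg.Agent.Helper10.RG3
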