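import Mathlib
import Cfsg.Agent.Lib.Helper10.RG3Defs
import Cfsg.Agent.Lib.Helper10.RG3Basic
import Cfsg.Agent.Lib.RG3.RG3KER

/-!
# S3626 piece RG3-EX6 (helper15): an element of order 6 in `Gam K`.
-/

set_option autoImplicit false
set_option linter.unusedSectionVars false
set_option linter.unusedVariables false

namespace Cfsg.Agent.Helper10.RG3

open Matrix Polynomial Cfsg.Agent.Helper2.AffExt

universe u v

section spec

variable {K : Type*} [Field K] [CharP K 3] [Fintype K]

/-- the unipotent element `!![1, 1; 0, 1]` of `SL₂(K)` -/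
def rg3_ex6_u (K : Type*) [Field K] : Matrix.SpecialLinearGroup (Fin 2) K :=
  ⟨!![1, 1; 0, 1], by simp [Matrix.det_fin_two]⟩

theorem rg3_ex6_u_pow (n : ℕ) :
    ((rg3_ex6_u K ^ n : Matrix.SpecialLinearGroup (Fin 2) K) : V2 K) = !![1, (n : K); 0, 1] := by
  induction n with
  | zero =>
    rw [pow_zero, Matrix.SpecialLinearGroup.coe_one]
    ext i j
    fin_cases i <;> fin_cases j <;> simp
  | succ n ih =>
    rw [pow_succ, Matrix.SpecialLinearGroup.coe_mul, ih]
    show !![1, (n : K); 0, 1] * !![1, 1; 0, 1] = _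
    ext i j
    fin_cases i <;> fin_cases j <;> simp [Matrix.mul_apply, Fin.sum_univ_two, add_comm]

theorem rg3_ex6_three : ((3 : ℕ) : K) = 0 := CharP.cast_eq_zero K 3

/-- PIECE RG3-EX6 -/
theorem exists_order_six : ∃ A : Gam K, orderOf A = 6 := by
  refine ⟨mkGam (rg3_ex6_u K) (-1), ?_⟩
  have h3 : ((rg3_ex6_u K ^ 3 : Matrix.SpecialLinearGroup (Fin 2) K) : V2 K) = 1 := by
    rw [rg3_ex6_u_pow, rg3_ex6_three]
    ext i j
    fin_cases i <;> fin_cases j <;> simp
  have h3' : rg3_ex6_u K ^ 3 = 1 := by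
    apply Subtype.ext
    rw [h3, Matrix.SpecialLinearGroup.coe_one]
  apply orderOf_eq_of_pow_and_pow_div_prime (by norm_num)
  · rw [mkGam_pow]
    have h6 : rg3_ex6_u K ^ 6 = 1 := by
      have : (6 : ℕ) = 3 * 2 := by norm_num
      rw [this, pow_mul, h3', one_pow]
    have hs : ((-1 : ℤˣ)) ^ 6 = 1 := by decide
    rw [h6, hs]
    exact mkGam_one_one
  · intro p hp hpd
    have hp6 : p ∣ 2 * 3 := by simpa using hpd
    rcases (Nat.Prime.dvd_mul hp).1 hp6 with h | h
    · have hp2 : p = 2 := (Nat.prime_dvd_prime_iff_eq hp Nat.prime_two).1 h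
      subst hp2
      show mkGam (rg3_ex6_u K) (-1) ^ 3 ≠ 1
      rw [mkGam_pow, Ne, mkGam_eq_one_iff]
      rintro ⟨hs, _⟩
      revert hs
      decide
    · have hp3 : p = 3 := (Nat.prime_dvd_prime_iff_eq hp Nat.prime_three).1 h
      subst hp3
      show mkGam (rg3_ex6_u K) (-1) ^ 2 ≠ 1
      rw [mkGam_pow, Ne, mkGam_eq_one_iff]
      rintro ⟨_, h1 | h1⟩
      · rw [rg3_ex6_u_pow] at h1
        have := congrFun (congrFun h1 0) 1
        simp at this
        exact two_ne_zero' this
      · rw [rg3_ex6_u_pow] at h1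
        have := congrFun (congrFun h1 0) 1
        simp at this
        exact two_ne_zero' this

end spec

end Cfsg.Agent.Helper10.RG3
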