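import Mathlib
import Cfsg.Agent.Lib.Helper10.RG3Defs
import Cfsg.Agent.Lib.Helper10.RG3Basic

/-!
# S3626, piece RG3-EX9: an element of order `9` in `Kk K k`, `k ≥ 1`.
-/

set_option autoImplicit false
set_option linter.unusedSectionVars false
set_option linter.unusedVariables false

namespace Cfsg.Agent.Helper10.RG3

open Matrix Polynomial Cfsg.Agent.Helper2.AffExt

universe u v

section spec

variable {K : Type*} [Field K] [CharP K 3] [Fintype K]

/-- the unipotent element `!![1,1;0,1]` of `SL₂(K)` -/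
def rg3_ex9_u (K : Type*) [Field K] : Matrix.SpecialLinearGroup (Fin 2) K :=
  ⟨!![1, 1; 0, 1], by simp [Matrix.det_fin_two]⟩

theorem rg3_ex9_u_cube : rg3_ex9_u K ^ 3 = 1 := by
  have h3 : (3 : K) = 0 := by
    have : ((3 : ℕ) : K) = 0 := CharP.cast_eq_zero K 3
    exact_mod_cast this
  apply Subtype.ext
  rw [Matrix.SpecialLinearGroup.coe_pow, Matrix.SpecialLinearGroup.coe_one]
  show (!![1, 1; 0, 1] : Matrix (Fin 2) (Fin 2) K) ^ 3 = 1
  rw [pow_succ, pow_two]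
  ext i j
  fin_cases i <;> fin_cases j <;>
    simp [Matrix.mul_apply, Fin.sum_univ_two]
  linear_combination h3

/-- the matrix unit `E₂₂` -/
def rg3_ex9_E (K : Type*) [Field K] : Matrix (Fin 2) (Fin 2) K := !![0, 0; 0, 1]

theorem rg3_ex9_entry (g : Matrix.SpecialLinearGroup (Fin 2) K) (s : ℤˣ) :
    (mkGam g s • rg3_ex9_E K) 0 0 = sgn s * ((g : Matrix (Fin 2) (Fin 2) K) 0 1) ^ 4 := by
  rw [mkGam_smul, Matrix.smul_apply, smul_eq_mul]
  congr 1
  simp [rg3_ex9_E, Matrix.mul_apply, Fin.sum_univ_two, sig_apply]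
  ring

theorem rg3_ex9_uu : ((rg3_ex9_u K * rg3_ex9_u K : Matrix.SpecialLinearGroup (Fin 2) K) :
    Matrix (Fin 2) (Fin 2) K) 0 1 = 2 := by
  rw [Matrix.SpecialLinearGroup.coe_mul]
  simp [rg3_ex9_u, Matrix.mul_apply, Fin.sum_univ_two]
  norm_num

theorem exists_order_nine {k : ℕ} (hk : 1 ≤ k) : ∃ a : Kk K k, orderOf a = 9 := by
  classical
  have h3 : (3 : K) = 0 := by
    have : ((3 : ℕ) : K) = 0 := CharP.cast_eq_zero K 3
    exact_mod_cast this
  set i0 : Fin k := ⟨0, hk⟩ with hi0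
  set a : Kk K k := ⟨Pi.single i0 (rg3_ex9_E K), mkGam (rg3_ex9_u K) 1⟩ with ha
  refine ⟨a, ?_⟩
  have hg3 : a.g ^ 3 = 1 := by
    show (mkGam (rg3_ex9_u K) 1) ^ 3 = 1
    rw [mkGam_pow, rg3_ex9_u_cube, one_pow, mkGam_one_one]
  have h9 : a ^ 3 ^ (1 + 1) = 1 := by
    have := aff_pow_mul 3 (three_nsmul (K := K) (k := k)) a 3 hg3
    simpa using this
  have h3' : ¬ a ^ 3 ^ 1 = 1 := by
    rw [pow_one]
    intro h
    have hw : (a ^ 3).w i0 0 0 = 0 := by rw [h]; rfl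
    have hpow : a ^ 3 = a * a * a := by rw [pow_succ, pow_two]
    rw [hpow, mul_w, mul_w, mul_g] at hw
    have ha_w : a.w = Pi.single i0 (rg3_ex9_E K) := rfl
    have ha_g : a.g = mkGam (rg3_ex9_u K) 1 := rfl
    rw [ha_g, mkGam_mul, ha_w] at hw
    simp only [Pi.add_apply, Gam_smul_pi, Pi.single_eq_same, Matrix.add_apply] at hw
    rw [← Gam_smul, ← Gam_smul, rg3_ex9_entry, rg3_ex9_entry, rg3_ex9_uu, mul_one, sgn_one] at hw
    have hE : rg3_ex9_E K 0 0 = 0 := by simp [rg3_ex9_E]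
    have hu : ((rg3_ex9_u K : Matrix.SpecialLinearGroup (Fin 2) K) :
        Matrix (Fin 2) (Fin 2) K) 0 1 = 1 := by simp [rg3_ex9_u]
    rw [hE, hu] at hw
    apply two_ne_zero' (K := K)
    linear_combination hw - 5 * h3
  have := orderOf_eq_prime_pow h3' h9
  norm_num at this
  exact this

end spec

end Cfsg.Agent.Helper10.RG3
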