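import Mathlib
import Cfsg.Agent.Lib.Helper10.RG3Defs
import Cfsg.Agent.Lib.Helper10.RG3Basic

/-!
# S3626 farm-out, piece RG3-EXQM (helper10's skeleton), core: an element of order `q - 1` in
`Gam K`, with the statement of RG3-KER (`mkGam_eq_one_iff`) as a hypothesis.  Typed by helper22.
-/

set_option autoImplicit false
set_option linter.unusedSectionVars false
set_option linter.unusedVariables false

namespace Cfsg.Agent.Helper10.RG3

open Matrix Polynomial Cfsg.Agent.Helper2.AffExt

universe u v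

section spec

variable {K : Type*} [Field K] [CharP K 3] [Fintype K]

/-- the diagonal matrix `diag(a, b)` -/
theorem rg3_exqm_diag_pow (a b : K) (n : ℕ) :
    (!![a, 0; 0, b] : V2 K) ^ n = !![a ^ n, 0; 0, b ^ n] := by
  induction n with
  | zero =>
    ext i j
    fin_cases i <;> fin_cases j <;> simp
  | succ n ih =>
    rw [pow_succ, ih]
    ext i j
    fin_cases i <;> fin_cases j <;> simp [Matrix.mul_apply, Fin.sum_univ_two, pow_succ]

theorem rg3_exqm_core
    (hker : ∀ (g : Matrix.SpecialLinearGroup (Fin 2) K) (s : ℤˣ),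
      mkGam g s = 1 ↔ s = 1 ∧ ((g : V2 K) = 1 ∨ (g : V2 K) = -1))
    (hq4 : 4 ∣ Fintype.card K + 1) :
    ∃ A : Gam K, orderOf A = Fintype.card K - 1 := by
  classical
  set q := Fintype.card K with hq
  have hq1 : 1 < q := Fintype.one_lt_card
  -- a generator of the multiplicative group
  obtain ⟨l, hl⟩ := IsCyclic.exists_generator (α := Kˣ)
  have hlord : orderOf l = q - 1 := by
    rw [orderOf_eq_card_of_forall_mem_zpowers hl, Nat.card_eq_fintype_card, Fintype.card_units]
  have hlpow : ∀ n : ℕ, (l : K) ^ n = 1 ↔ (q - 1) ∣ n := by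
    intro n
    rw [← hlord, orderOf_dvd_iff_pow_eq_one, ← Units.val_pow_eq_pow_val, Units.val_eq_one]
  have hdet : (!![(l : K), 0; 0, ((l⁻¹ : Kˣ) : K)] : V2 K).det = 1 := by
    rw [Matrix.det_fin_two_of]
    simp
  set g : Matrix.SpecialLinearGroup (Fin 2) K := ⟨!![(l : K), 0; 0, ((l⁻¹ : Kˣ) : K)], hdet⟩ with hg
  have hcoe : ∀ n : ℕ, ((g ^ n : Matrix.SpecialLinearGroup (Fin 2) K) : V2 K) =
      !![(l : K) ^ n, 0; 0, ((l⁻¹ : Kˣ) : K) ^ n] := by
    intro n
    rw [Matrix.SpecialLinearGroup.coe_pow]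
    exact rg3_exqm_diag_pow _ _ n
  -- arithmetic of `q`
  obtain ⟨c, hc⟩ := hq4
  have hqm : q - 1 = 2 * (2 * c - 1) := by omega
  have hc1 : 1 ≤ c := by omega
  refine ⟨mkGam g (-1), ?_⟩
  apply Nat.dvd_antisymm
  · -- `A ^ (q - 1) = 1`
    apply orderOf_dvd_of_pow_eq_one
    rw [mkGam_pow, hker]
    refine ⟨?_, Or.inl ?_⟩
    · rw [hqm, pow_mul]
      simp
    · rw [hcoe, (hlpow (q - 1)).mpr dvd_rfl]
      have h2 : ((l⁻¹ : Kˣ) : K) ^ (q - 1) = 1 := by
        rw [← Units.val_pow_eq_pow_val, inv_pow, Units.val_eq_one, inv_eq_one,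
          ← Units.val_eq_one, Units.val_pow_eq_pow_val]
        exact (hlpow (q - 1)).mpr dvd_rfl
      rw [h2]
      exact Matrix.one_fin_two.symm
  · -- `A ^ n = 1 → q - 1 ∣ n`
    set n := orderOf (mkGam g (-1)) with hn
    have h1 : (mkGam g (-1)) ^ n = 1 := pow_orderOf_eq_one _
    rw [mkGam_pow, hker] at h1
    obtain ⟨hs, hgn⟩ := h1
    -- `n` is even
    have heven : Even n := by
      by_contra hodd
      rw [Nat.not_even_iff_odd] at hodd
      rw [Odd.neg_one_pow hodd] at hs
      exact absurd hs (by decide)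
    -- `l ^ (2 n) = 1`
    have hl2 : (l : K) ^ (2 * n) = 1 := by
      rw [hcoe] at hgn
      rcases hgn with h | h
      · have := congrFun (congrFun h 0) 0
        simp at this
        rw [mul_comm, pow_mul, this, one_pow]
      · have := congrFun (congrFun h 0) 0
        simp at this
        rw [mul_comm, pow_mul, this]
        simp
    have hd : (q - 1) ∣ 2 * n := (hlpow (2 * n)).mp hl2
    rw [hqm] at hd ⊢
    have hd2 : (2 * c - 1) ∣ n := (Nat.mul_dvd_mul_iff_left (by norm_num)).mp hd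
    have hcop : Nat.Coprime 2 (2 * c - 1) := by
      rw [Nat.coprime_two_left]
      exact ⟨c - 1, by omega⟩
    exact Nat.Coprime.mul_dvd_of_dvd_of_dvd hcop heven.two_dvd hd2

end spec

end Cfsg.Agent.Helper10.RG3
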