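import Mathlib
import Cfsg.Agent.Lib.Helper10.RG3Defs
import Cfsg.Agent.Lib.Helper10.RG3Basic
import Cfsg.Agent.Lib.RG3.RG3KER
import Cfsg.Agent.Lib.RG3.RG3EXQMCore

/-!
# S3626 farm-out, piece RG3-EXQM (helper10's skeleton): an element of order `q - 1` in `Gam K`.
Typed by helper22.
-/

set_option autoImplicit false
set_option linter.unusedSectionVars false
set_option linter.unusedVariables false

namespace Cfsg.Agent.Helper10.RG3

open Matrix Polynomial Cfsg.Agent.Helper2.AffExt

universe u v

section spec

variable {K : Type*} [Field K] [CharP K 3] [Fintype K]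

theorem exists_order_qm (hq4 : 4 ∣ Fintype.card K + 1) :
    ∃ A : Gam K, orderOf A = Fintype.card K - 1 :=
  rg3_exqm_core (fun g s => mkGam_eq_one_iff g s) hq4

end spec

end Cfsg.Agent.Helper10.RG3
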