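import Mathlib
import Cfsg.Agent.Lib.Helper10.RG3Defs
import Cfsg.Agent.Lib.Helper10.RG3Basic
import Cfsg.Agent.Lib.PU3.PU3SINGER2

/-!
# S3626 farm-out, piece RG3-EXQP (helper10's skeleton), core: an element of order `(q+1)/2` in
`Gam K`, with the statement of RG3-KER (`mkGam_eq_one_iff`) as a hypothesis.  Typed by helper19.
-/

set_option autoImplicit false
set_option linter.unusedSectionVars false
set_option linter.unusedVariables false

namespace Cfsg.Agent.Helper10.RG3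

open Matrix Polynomial Cfsg.Agent.Helper2.AffExt

universe u v

section spec

variable {K : Type*} [Field K] [CharP K 3] [Fintype K]

theorem rg3_exqp_sq_sub_one (q : ℕ) (hq : 1 ≤ q) : q ^ 2 - 1 = (q - 1) * (q + 1) := by
  obtain ⟨r, rfl⟩ : ∃ r, q = r + 1 := ⟨q - 1, by omega⟩
  have h1 : (r + 1) ^ 2 - 1 = r * (r + 1 + 1) := by
    have : (r + 1) ^ 2 = r * (r + 1 + 1) + 1 := by ring
    omega
  rw [h1, Nat.add_sub_cancel]

theorem rg3_exqp_core
    (hker : ∀ (g : Matrix.SpecialLinearGroup (Fin 2) K) (s : ℤˣ),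
      mkGam g s = 1 ↔ s = 1 ∧ ((g : V2 K) = 1 ∨ (g : V2 K) = -1))
    (hq4 : 4 ∣ Fintype.card K + 1) :
    ∃ A : Gam K, orderOf A = (Fintype.card K + 1) / 2 := by
  classical
  obtain ⟨S, hSdet, hSord, -⟩ := Cfsg.Agent.Helper16.PU3.exists_singer_scalar (F := K) 2 (by norm_num)
  set q := Fintype.card K with hq
  have hq1 : 1 < q := Fintype.one_lt_card
  have hfac : q ^ 2 - 1 = (q - 1) * (q + 1) := rg3_exqp_sq_sub_one q (by omega)
  -- the torus element
  have hTdet : (S ^ (q - 1)).det = 1 := by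
    rw [Matrix.det_pow]
    exact FiniteField.pow_card_sub_one_eq_one _ hSdet
  have hTpow : ∀ m : ℕ, (S ^ (q - 1)) ^ m = 1 ↔ (q + 1) ∣ m := by
    intro m
    rw [← pow_mul, ← orderOf_dvd_iff_pow_eq_one, hSord, hfac]
    exact Nat.mul_dvd_mul_iff_left (by omega)
  set Tsl : Matrix.SpecialLinearGroup (Fin 2) K := ⟨S ^ (q - 1), hTdet⟩ with hTsl
  have hcoe : ∀ n : ℕ, ((Tsl ^ n : Matrix.SpecialLinearGroup (Fin 2) K) : V2 K) =
      (S ^ (q - 1)) ^ n := by
    intro n
    rw [Matrix.SpecialLinearGroup.coe_pow]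
  obtain ⟨n₀, hn₀⟩ : ∃ n₀, q + 1 = 2 * n₀ := by
    obtain ⟨c, hc⟩ := hq4
    exact ⟨2 * c, by omega⟩
  have hn₀' : (q + 1) / 2 = n₀ := by omega
  refine ⟨mkGam Tsl 1, ?_⟩
  rw [hn₀']
  have hApow : ∀ n : ℕ, (mkGam Tsl 1) ^ n = 1 ↔ n₀ ∣ n := by
    intro n
    rw [mkGam_pow, one_pow]
    constructor
    · intro h
      have h1 := ((hker (Tsl ^ n) 1).1 h).2
      rw [hcoe] at h1
      have h2 : (S ^ (q - 1)) ^ (2 * n) = 1 := by
        rw [mul_comm, pow_mul]
        rcases h1 with h1 | h1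
        · rw [h1, one_pow]
        · rw [h1, neg_one_sq]
      have h3 := (hTpow (2 * n)).1 h2
      rw [hn₀] at h3
      exact (Nat.mul_dvd_mul_iff_left (by norm_num)).1 h3
    · rintro ⟨c, rfl⟩
      have h2 : (S ^ (q - 1)) ^ n₀ * (S ^ (q - 1)) ^ n₀ = 1 := by
        rw [← pow_add, ← two_mul, ← hn₀]
        exact (hTpow (q + 1)).2 dvd_rfl
      have hd : ((S ^ (q - 1)) ^ n₀).det = 1 := by
        rw [Matrix.det_pow, hTdet, one_pow]
      have h3 := eq_one_or_neg_one ((S ^ (q - 1)) ^ n₀) hd h2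
      rw [pow_mul]
      have h4 : mkGam (Tsl ^ n₀) 1 = 1 := by
        rcases h3 with h3 | h3
        · have : Tsl ^ n₀ = 1 := by
            apply Subtype.ext
            rw [hcoe, h3]
            rfl
          rw [this, mkGam_one_one]
        · apply mkGam_neg_one
          rw [hcoe, h3]
      have h5 : mkGam ((Tsl ^ n₀) ^ c) 1 = (mkGam (Tsl ^ n₀) 1) ^ c := by
        rw [mkGam_pow, one_pow]
      rw [h5, h4, one_pow]
  apply Nat.dvd_antisymm
  · exact orderOf_dvd_of_pow_eq_one ((hApow n₀).2 dvd_rfl)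
  · exact (hApow _).1 (pow_orderOf_eq_one _)

end spec

end Cfsg.Agent.Helper10.RG3
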