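import Mathlib
import Cfsg.Agent.Lib.Helper10.RG3Defs
import Cfsg.Agent.Lib.Helper10.RG3Basic
import Cfsg.Agent.Lib.RG3.RG3KER
import Cfsg.Agent.Lib.PU3.PU3SINGER2
import Cfsg.Agent.Lib.RG3.RG3EXQPCore

/-!
# S3626 farm-out, piece RG3-EXQP (helper10's skeleton): an element of order `(q+1)/2` in `Gam K`.
Typed by helper19.  The proof is `rg3_exqp_core` fed with RG3-KER.
-/

set_option autoImplicit false
set_option linter.unusedSectionVars false
set_option linter.unusedVariables false

namespace Cfsg.Agent.Helper10.RG3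

open Matrix Polynomial Cfsg.Agent.Helper2.AffExt

universe u v

section spec

variable {K : Type*} [Field K] [CharP K 3] [Fintype K]

/-- PIECE RG3-EXQP -/
theorem exists_order_qp (hq4 : 4 ∣ Fintype.card K + 1) :
    ∃ A : Gam K, orderOf A = (Fintype.card K + 1) / 2 :=
  rg3_exqp_core (fun g s => mkGam_eq_one_iff g s) hq4

end spec

end Cfsg.Agent.Helper10.RG3
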