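import Mathlib
import Cfsg.Agent.Lib.Helper10.RG3Defs
import Cfsg.Agent.Lib.Helper10.RG3Basic

/-! S3626 farm-out (designer helper10), piece RG3-FIX: a nonzero fixed point of `X ↦ c g X σ(g)ᵀ` forces
`trace g = 0` or `(trace g)^2 = 1`. -/

set_option autoImplicit false
set_option linter.unusedSectionVars false
set_option linter.unusedVariables false

namespace Cfsg.Agent.Helper10.RG3

open Matrix Polynomial

universe u v

section lin

variable {K : Type*} [Field K] [CharP K 3]

/-- PIECE RG3-FIX -/
theorem fix_trace (hns : ∀ x : K, x ^ 2 ≠ -1) (g : V2 K) (hdet : g.det = 1) (c : K)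
    (hc : c = 1 ∨ c = -1) (X : V2 K) (hX : X ≠ 0) (hfix : c • (g * X * (sig K g)ᵀ) = X) :
    g.trace = 0 ∨ g.trace ^ 2 = 1 := by
  set t := g.trace with ht
  set h : V2 K := (sig K g)ᵀ with hh
  have hc2 : c * c = 1 := by rcases hc with rfl | rfl <;> ring
  have hdeth : h.det = 1 := by rw [hh, Matrix.det_transpose, sig_det, hdet, one_pow]
  have htrh : h.trace = t ^ 3 := by rw [hh, Matrix.trace_transpose, sig_trace]
  have hg2 : g * g = t • g - 1 := by
    have h0 := ch2 g
    rw [hdet, one_smul] at h0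
    exact h0
  have hh2 : h * h = (t ^ 3) • h - 1 := by
    have h0 := ch2 h
    rw [hdeth, one_smul, htrh] at h0
    exact h0
  have h1 : g * X * h = c • X := by
    have h0 := congrArg (fun Y => c • Y) hfix
    simp only [smul_smul, hc2, one_smul] at h0
    exact h0
  have hginv : (t • (1 : V2 K) - g) * g = 1 := by
    rw [Matrix.sub_mul, Matrix.smul_mul, Matrix.one_mul, hg2]
    abel
  have hhinv : h * ((t ^ 3) • (1 : V2 K) - h) = 1 := by
    rw [Matrix.mul_sub, Matrix.mul_smul, Matrix.mul_one, hh2]
    abel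
  have e1 : X * h = c • ((t • (1 : V2 K) - g) * X) := by
    calc X * h = ((t • (1 : V2 K) - g) * g) * X * h := by rw [hginv, Matrix.one_mul]
      _ = (t • (1 : V2 K) - g) * (g * X * h) := by simp only [Matrix.mul_assoc]
      _ = c • ((t • (1 : V2 K) - g) * X) := by rw [h1, Matrix.mul_smul]
  have e2 : g * X = c • (X * ((t ^ 3) • (1 : V2 K) - h)) := by
    calc g * X = g * X * (h * ((t ^ 3) • (1 : V2 K) - h)) := by rw [hhinv, Matrix.mul_one]
      _ = (g * X * h) * ((t ^ 3) • (1 : V2 K) - h) := by simp only [Matrix.mul_assoc]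
      _ = c • (X * ((t ^ 3) • (1 : V2 K) - h)) := by rw [h1, Matrix.smul_mul]
  have e1' : X * h = (c * t) • X - c • (g * X) := by
    rw [e1, Matrix.sub_mul, Matrix.smul_mul, Matrix.one_mul, smul_sub, smul_smul]
  have e2' : g * X = (c * t ^ 3) • X - c • (X * h) := by
    rw [e2, Matrix.mul_sub, Matrix.mul_smul, Matrix.mul_one, smul_sub, smul_smul]
  have e3 : X * h = (c * t) • X - ((t ^ 3) • X - X * h) := by
    have h0 : X * h = (c * t) • X - c • ((c * t ^ 3) • X - c • (X * h)) := by
      rw [← e2']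
      exact e1'
    rw [smul_sub, smul_smul, smul_smul, hc2, one_smul, ← mul_assoc, hc2, one_mul] at h0
    exact h0
  have e4 : (c * t - t ^ 3) • X = 0 := by
    rw [sub_smul]
    calc (c * t) • X - (t ^ 3) • X = ((c * t) • X - ((t ^ 3) • X - X * h)) - X * h := by abel
      _ = X * h - X * h := by rw [← e3]
      _ = 0 := sub_self _
  rcases smul_eq_zero.1 e4 with h5 | h5
  · have h6 : t * (c - t ^ 2) = 0 := by
      have : t * (c - t ^ 2) = c * t - t ^ 3 := by ring
      rw [this, h5]
    rcases mul_eq_zero.1 h6 with h7 | h7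
    · left
      exact h7
    · have h8 : t ^ 2 = c := (sub_eq_zero.1 h7).symm
      rcases hc with rfl | rfl
      · right
        exact h8
      · exact absurd h8 (hns t)
  · exact absurd h5 hX

end lin

end Cfsg.Agent.Helper10.RG3
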