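import Mathlib

/-!
# S3626 piece RG3-FLD: field facts for `q = 3 ^ (2 m + 1)`
-/

set_option autoImplicit false
set_option linter.unusedSectionVars false
set_option linter.unusedVariables false

namespace Cfsg.Agent.Helper10.RG3

universe u v

section arith

theorem rg3_fld_mod_four (m : ℕ) : 3 ^ (2 * m + 1) % 4 = 3 := by
  have h9 : 9 ^ m % 4 = 1 := by
    rw [Nat.pow_mod]
    norm_num
  have : 3 ^ (2 * m + 1) = 9 ^ m * 3 := by
    rw [pow_succ, pow_mul]
    norm_num
  rw [this, Nat.mul_mod, h9]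

/-- PIECE RG3-FLD -/
theorem fld_facts {K : Type*} [Field K] [Fintype K] {m : ℕ}
    (hK : Fintype.card K = 3 ^ (2 * m + 1)) :
    CharP K 3 ∧ (∀ x : K, x ^ 2 ≠ -1) ∧ 4 ∣ Fintype.card K + 1 := by
  have hmod : Fintype.card K % 4 = 3 := by rw [hK]; exact rg3_fld_mod_four m
  refine ⟨?_, ?_, ?_⟩
  · have : Fact (Nat.Prime 3) := ⟨Nat.prime_three⟩
    exact charP_of_card_eq_prime_pow hK
  · intro x hx
    have hsq : IsSquare (-1 : K) := ⟨x, by rw [← pow_two]; exact hx.symm⟩
    rw [FiniteField.isSquare_neg_one_iff] at hsq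
    exact hsq hmod
  · omega

end arith

end Cfsg.Agent.Helper10.RG3
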