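import Mathlib
import Cfsg.Agent.Lib.Helper10.RG3Basic

/-!
# S3626 piece RG3-TOR: `p(g) = 0` for `p = X² - tr(g) X + 1`, so `p ∣ X^n - 1` gives `g^n = 1`
-/

set_option autoImplicit false
set_option linter.unusedSectionVars false
set_option linter.unusedVariables false

namespace Cfsg.Agent.Helper10.RG3

open Matrix Polynomial

section lin

variable {K : Type*} [Field K] [CharP K 3]

theorem torus_pow_of_dvd (g : V2 K) (hdet : g.det = 1) (n : ℕ)
    (h : (X ^ 2 - C g.trace * X + 1 : K[X]) ∣ X ^ n - 1) : g ^ n = 1 := by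
  obtain ⟨r, hr⟩ := h
  have h1 : aeval g (X ^ 2 - C g.trace * X + 1 : K[X]) = 0 := by
    simp only [map_add, map_sub, map_mul, map_pow, aeval_X, aeval_C, map_one]
    rw [pow_two, ch2 g, hdet, one_smul, Algebra.algebraMap_eq_smul_one, smul_mul_assoc, one_mul]
    abel
  have h2 := congrArg (aeval g) hr
  rw [map_mul, h1, zero_mul, map_sub, map_pow, aeval_X, map_one, sub_eq_zero] at h2
  exact h2

end lin

end Cfsg.Agent.Helper10.RG3
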