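import Mathlib
import Cfsg.Agent.Lib.Helper10.RG3Defs
import Cfsg.Agent.Lib.PU3.PU3NORMROOT

/-!
# S3626 piece RG3-TORP: `X^2 - tX + 1` (`t^2 ≠ 1`, characteristic 3) divides `X^(q-1) - 1` or
`X^(q+1) - 1`.
-/

set_option autoImplicit false
set_option linter.unusedSectionVars false
set_option linter.unusedVariables false

namespace Cfsg.Agent.Helper10.RG3

open Matrix Polynomial Cfsg.Agent.Helper2.AffExt

universe u v

section lin

variable {K : Type*} [Field K] [CharP K 3]

theorem rg3_torp_monic (t : K) : (X ^ 2 - C t * X + 1 : K[X]).Monic := by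
  have h : (X ^ 2 - C t * X + 1 : K[X]) = X ^ 2 + (-(C t * X) + 1) := by ring
  rw [h]
  apply monic_X_pow_add
  refine lt_of_le_of_lt (degree_add_le _ _) ?_
  refine max_lt ?_ ?_
  · rw [degree_neg]
    refine lt_of_le_of_lt (degree_C_mul_X_le t) ?_
    norm_num
  · rw [degree_one]
    norm_num

theorem rg3_torp_natDegree (t : K) : (X ^ 2 - C t * X + 1 : K[X]).natDegree = 2 := by
  have h : (X ^ 2 - C t * X + 1 : K[X]) = X ^ 2 + (-(C t * X) + 1) := by ring
  rw [h]
  have hd : (-(C t * X) + 1 : K[X]).degree < ((2 : ℕ) : WithBot ℕ) := by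
    refine lt_of_le_of_lt (degree_add_le _ _) ?_
    refine max_lt ?_ ?_
    · rw [degree_neg]
      refine lt_of_le_of_lt (degree_C_mul_X_le t) ?_
      norm_num
    · rw [degree_one]
      norm_num
  have h2 : (X ^ 2 + (-(C t * X) + 1) : K[X]).degree = ((2 : ℕ) : WithBot ℕ) := by
    rw [degree_add_eq_left_of_degree_lt (by rw [degree_X_pow]; exact hd), degree_X_pow]
  exact natDegree_eq_of_degree_eq_some h2

theorem rg3_torp_coeff_zero (t : K) : (X ^ 2 - C t * X + 1 : K[X]).coeff 0 = 1 := by
  simp

theorem rg3_torp_four : (4 : K) = 1 := by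
  have h3 : (3 : K) = 0 := by
    have := CharP.cast_eq_zero K 3
    exact_mod_cast this
  linear_combination h3

/-- PIECE RG3-TORP -/
theorem quad_dvd [Fintype K] (t : K) (ht : t ^ 2 ≠ 1) :
    (X ^ 2 - C t * X + 1 : K[X]) ∣ X ^ (Fintype.card K - 1) - 1 ∨
      (X ^ 2 - C t * X + 1 : K[X]) ∣ X ^ (Fintype.card K + 1) - 1 := by
  classical
  by_cases hroot : ∃ l : K, (X ^ 2 - C t * X + 1 : K[X]).IsRoot l
  · left
    obtain ⟨l, hl⟩ := hroot
    have hl' : l ^ 2 - t * l + 1 = 0 := by
      have := hl
      simp only [IsRoot.def, eval_add, eval_sub, eval_pow, eval_X, eval_mul, eval_C, eval_one]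
        at this
      exact this
    have hl0 : l ≠ 0 := by
      rintro rfl
      simp at hl'
    have hinv : l⁻¹ = t - l := by
      apply inv_eq_of_mul_eq_one_right
      linear_combination -hl'
    have hne : l ≠ l⁻¹ := by
      intro h
      have hl2 : l ^ 2 = 1 := by
        have : l * l⁻¹ = 1 := mul_inv_cancel₀ hl0
        rw [← h] at this
        rw [sq]
        exact this
      have ht2 : t = 2 * l := by
        have h1 : l = t - l := h.trans hinv
        linear_combination (-1 : K) * h1
      apply ht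
      rw [ht2, mul_pow, hl2, mul_one]
      have := rg3_torp_four (K := K)
      linear_combination this
    have hfac : (X ^ 2 - C t * X + 1 : K[X]) = (X - C l) * (X - C l⁻¹) := by
      have h1 : t = l + l⁻¹ := by rw [hinv]; ring
      have h2 : (C l * C l⁻¹ : K[X]) = 1 := by
        rw [← C_mul, mul_inv_cancel₀ hl0, C_1]
      rw [h1, C_add]
      linear_combination (-1 : K[X]) * h2
    rw [hfac]
    have hcop : IsCoprime (X - C l : K[X]) (X - C l⁻¹) :=
      Polynomial.isCoprime_X_sub_C_of_isUnit_sub (sub_ne_zero.2 hne).isUnit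
    have hpow : ∀ a : K, a ≠ 0 → (X - C a : K[X]) ∣ X ^ (Fintype.card K - 1) - 1 := by
      intro a ha
      rw [dvd_iff_isRoot]
      simp only [IsRoot.def, eval_sub, eval_pow, eval_X, eval_one]
      rw [FiniteField.pow_card_sub_one_eq_one a ha, sub_self]
    exact hcop.mul_dvd (hpow l hl0) (hpow l⁻¹ (inv_ne_zero hl0))
  · right
    have hmon := rg3_torp_monic t
    have hdeg := rg3_torp_natDegree t
    have hirr : Irreducible (X ^ 2 - C t * X + 1 : K[X]) := by
      rw [Polynomial.irreducible_iff_roots_eq_zero_of_degree_le_three (by rw [hdeg])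
        (by rw [hdeg]; norm_num)]
      rw [Multiset.eq_zero_iff_forall_notMem]
      intro a ha
      exact hroot ⟨a, (mem_roots hmon.ne_zero).1 ha⟩
    have h := Cfsg.Agent.Helper16.PU3.root_pow_eq_coeff_zero _ hmon hirr
    rw [hdeg, rg3_torp_coeff_zero] at h
    have hq : 2 ≤ Fintype.card K := Fintype.one_lt_card
    have hexp : (Fintype.card K ^ 2 - 1) / (Fintype.card K - 1) = Fintype.card K + 1 := by
      have h1 : Fintype.card K ^ 2 - 1 = (Fintype.card K + 1) * (Fintype.card K - 1) := by
        have h1' : 1 ≤ Fintype.card K := by omega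
        have h2' : 1 ≤ Fintype.card K ^ 2 := Nat.one_le_pow _ _ h1'
        zify [h1', h2']
        ring
      rw [h1]
      exact Nat.mul_div_cancel _ (by omega)
    rw [hexp] at h
    have hc : (C ((-1) ^ 2 * 1) : K[X]) = 1 := by
      rw [neg_one_sq, mul_one, C_1]
    rw [hc] at h
    exact h

end lin

end Cfsg.Agent.Helper10.RG3
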