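import Mathlib
import Cfsg.Agent.Lib.Helper10.RG3Defs

/-!
# S3626 piece RG3-CARD (helper11): `k < Nat.card (Kk K k)`
-/

set_option autoImplicit false
set_option linter.unusedSectionVars false
set_option linter.unusedVariables false

namespace Cfsg.Agent.Helper10.RG3

open Matrix Cfsg.Agent.Helper2.AffExt

section spec

variable {K : Type*} [Field K] [CharP K 3] [Fintype K]

theorem rg3_card_two_le_V2 : 2 ≤ Nat.card (V2 K) := by
  haveI : Nontrivial (V2 K) := ⟨⟨0, 1, by
    intro h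
    have := congrFun (congrFun h 0) 0
    simp at this⟩⟩
  exact Finite.one_lt_card

theorem Kk_card_gt (k : ℕ) : k < Nat.card (Kk K k) := by
  have h1 : Nat.card (Kk K k) = Nat.card (Fin k → V2 K) * Nat.card (Gam K) := card_aff
  have h2 : Nat.card (Fin k → V2 K) = Nat.card (V2 K) ^ k := by
    rw [Nat.card_fun, Nat.card_eq_fintype_card (α := Fin k), Fintype.card_fin]
  have h3 : 1 ≤ Nat.card (Gam K) := Nat.one_le_iff_ne_zero.mpr Nat.card_pos.ne'
  have h4 : k < 2 ^ k := Nat.lt_two_pow_self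
  have h5 : 2 ^ k ≤ Nat.card (V2 K) ^ k := Nat.pow_le_pow_left rg3_card_two_le_V2 k
  rw [h1, h2]
  calc k < 2 ^ k := h4
    _ ≤ Nat.card (V2 K) ^ k := h5
    _ = Nat.card (V2 K) ^ k * 1 := (Nat.mul_one _).symm
    _ ≤ Nat.card (V2 K) ^ k * Nat.card (Gam K) := Nat.mul_le_mul_left _ h3

end spec

end Cfsg.Agent.Helper10.RG3
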